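import Cfsg.Agent.H713.Spor.B
import Cfsg.Agent.H877.SK.B.Sch
import Cfsg.Agent.H715.Mon.Colour
import Cfsg.Agent.H547.PP.FarBaby
import Cfsg.Agent.H546.MElevenB_m3
import Cfsg.Agent.FastGrp
import Cfsg.Agent.Prune
set_option linter.all false
prune_inst 0x7f00000000000000000000000000000000000000000000000000000000000000000000000000000000000000000000000000000000000000000000000000000000000000000000000000000000000000003fffffffffffffffffffffffffffbeffbdffffffff
open scoped Cfsg.Agent.FastGrp

-- part: H909/PwM/Pair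
section
/-!
# Elements with square the central involution of a double cover of the Baby Monster (helper909)

* `exists_pair` : `b * b = τ` implies `b` or `b⁻¹` is a product `w w'` of two lifts of transpositions, and the conjugates
  of `w` under `C(b)` are `w`, `w τ`, `w'`, `w' τ`;
* `card_le` : `|C(b)| ≤ 4 |C(w) ∩ C(w')|`;
* `card_eq` : `2 |C(q w) ∩ C(q w')| = 4 |C(w) ∩ C(w')|`.
-/

set_option autoImplicit false
set_option maxRecDepth 100000
set_option linter.unusedSectionVars false

namespace Cfsg.Agent.H909.PwM.Pair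

open Subgroup Cfsg Cfsg.Agent.R01.Lifts Cfsg.Agent.MonsterN Cfsg.Agent.MonsterN.Lit
open Cfsg.Agent.BabyComp Cfsg.Agent.BabyComp.Main Cfsg.Agent.BabyComp.BaseTwo
open Cfsg.Agent.H713.Spor

section

variable {B X E : Type*} [Group B] [Group X] [Group E] [Finite B] [Finite X] {q : B →* X} {τ : B} {R : Set E}
variable {y : ℕ → B} {h : Pre y} {π : KK y →* E}

/-- **Square roots of the central involution.** -/
theorem exists_pair {F : Type*} [Field F] [Fintype F] {hF : Fintype.card F = 2 ^ 2}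
    (hR : Cfsg.Agent.BabyU.RootCfg.RootFacts hF R) (hX : Cfsg.Agent.BabyU.Key.Extra hF R)
    (Rt : Cfsg.Agent.BabyU.Lab.Roots E R)
    (hq : _root_.Cfsg.Agent.R01.Lifts.Ext q τ) (h10 : y 10 = τ) (D : KD h R π) (big : KEq.Big B τ (y 5)) {M₁ : Subgroup X}
    (Bs : Base2 (q (y 5)) M₁) {b : B} (hbb : b * b = τ) :
    ∃ w w' : B, IsConj (y 5) w ∧ IsConj (y 5) w' ∧ (w * w' = b ∨ w * w' = b⁻¹) ∧
      ∀ x : B, x * b = b * x → x * w * x⁻¹ = w ∨ x * w * x⁻¹ = w * τ ∨ x * w * x⁻¹ = w' ∨ x * w * x⁻¹ = w' * τ := by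
  have huu : q b * q b = 1 := by rw [← map_mul, hbb, hq.mapz]
  have hu1 : q b ≠ 1 := by
    intro e
    rcases (hq.ker b).1 e with rfl | rfl
    · exact hq.zne (by rw [← hbb, one_mul])
    · exact hq.zne (by rw [← hbb, hq.zz])
  have hM := BaseTwo.Base.eq_map hq h10 big Bs.toBase
  -- `u` has no conjugate in `M₁`
  have hno : ∀ g : X, g⁻¹ * q b * g ∉ M₁ := by
    intro g hg
    obtain ⟨c, rfl⟩ := hq.surj g
    obtain ⟨k, hk, hqk⟩ := M_le hq h10 big Bs.toBase _ hg
    have hkk : k * k = 1 := by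
      refine lift_sq hR hX Rt hq h10 D hk ?_
      rw [hqk]
      calc (q c)⁻¹ * q b * q c * ((q c)⁻¹ * q b * q c) = (q c)⁻¹ * (q b * q b) * q c := by group
        _ = 1 := by rw [huu]; group
    have h1 : q k = q (c⁻¹ * b * c) := by rw [hqk, map_mul, map_mul, map_inv]
    have h2 : k * k = τ := by
      have h3 : c⁻¹ * b * c * (c⁻¹ * b * c) = τ := by
        calc c⁻¹ * b * c * (c⁻¹ * b * c) = c⁻¹ * (b * b) * c := by group
          _ = c⁻¹ * (τ * c) := by rw [hbb, mul_assoc]
          _ = c⁻¹ * (c * τ) := by rw [hq.comm]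
          _ = τ := by group
      rcases hq.map_eq.1 h1 with h4 | h4
      · rw [h4, h3]
      · rw [h4]
        calc c⁻¹ * b * c * τ * (c⁻¹ * b * c * τ) = c⁻¹ * b * c * (τ * (c⁻¹ * b * c)) * τ := by group
          _ = c⁻¹ * b * c * (c⁻¹ * b * c * τ) * τ := by rw [hq.comm (c⁻¹ * b * c)]
          _ = (c⁻¹ * b * c * (c⁻¹ * b * c)) * (τ * τ) := by group
          _ = τ := by rw [h3, hq.zz, mul_one]
    rw [hkk] at h2
    exact hq.zne h2.symm
  rcases Bs.classes (q b) huu hu1 with ⟨g, hg⟩ | ⟨d, hd', hc, hud⟩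
  · exact absurd hg (hno g)
  · obtain ⟨g, hg⟩ := isConj_iff.1 hd'
    obtain ⟨c, rfl⟩ := hq.surj g
    obtain ⟨g', hg'⟩ := isConj_iff.1 hud
    obtain ⟨c', rfl⟩ := hq.surj g'
    set t := q (y 5) with ht
    have htt : t * t = 1 := by rw [ht, ← map_mul, h.sq 5 (by norm_num) (by norm_num), map_one]
    have htM : t ∈ M₁ := by rw [hM]; exact ⟨y 5, h.five_mem, rfl⟩
    have hdd : d * d = 1 := by
      rw [← hg]
      calc q c * t * (q c)⁻¹ * (q c * t * (q c)⁻¹) = q c * (t * t) * (q c)⁻¹ := by group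
        _ = 1 := by rw [htt]; group
    set! u' : X := (q c)⁻¹ * q b * q c with hu'
    have hdt : (q c)⁻¹ * d * q c = t := by rw [← hg]; group
    have hu't : u' * t = t * u' := by
      calc u' * t = (q c)⁻¹ * (q b * d) * q c := by rw [← hdt, hu']; group
        _ = (q c)⁻¹ * (d * q b) * q c := by rw [hc]
        _ = t * u' := by rw [← hdt, hu']; group
    -- the transposition `d' = t u'`
    have hd'T : IsConj t (t * u') := by
      refine hud.trans (isConj_iff.2 ⟨(q c)⁻¹, ?_⟩)
      rw [← hu't, inv_inv, ← hdt, hu']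
      group
    have htd' : t * (t * u') = u' := by rw [← mul_assoc, htt, one_mul]
    have hd'M : t * u' ∉ M₁ := by
      intro h1
      have h2 := M₁.mul_mem htM h1
      rw [htd'] at h2
      exact hno (q c) h2
    -- uniqueness
    have huniq : ∀ e : X, IsConj t e → e * q b = q b * e → IsConj t (e * q b) → e = d ∨ e = q b * d := by
      intro e he heu heu'
      have hcj : ∀ x : X, IsConj t x → IsConj t ((q c)⁻¹ * x * q c) := fun x hx =>
        hx.trans (isConj_iff.2 ⟨(q c)⁻¹, by rw [inv_inv]⟩)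
      have h1 := Bs.uniq (t * u') ((q c)⁻¹ * e * q c) hd'T (by rw [mul_assoc, hu't]) hd'M (hcj e he) (by
          rw [htd', hu']
          calc (q c)⁻¹ * e * q c * ((q c)⁻¹ * q b * q c) = (q c)⁻¹ * (e * q b) * q c := by group
            _ = (q c)⁻¹ * (q b * e) * q c := by rw [heu]
            _ = _ := by group) (by
          rw [htd', hu']
          have h2 : (q c)⁻¹ * e * q c * ((q c)⁻¹ * q b * q c) = (q c)⁻¹ * (e * q b) * q c := by group
          rw [h2]
          exact hcj _ heu')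
      rcases h1 with h1 | h1
      · left
        rw [← hg, ← h1]; group
      · right
        have h2 : e = q c * (t * u') * (q c)⁻¹ := by rw [← h1]; group
        rw [h2, ← hu't, hu', ← hg]
        group
    refine ⟨c * y 5 * c⁻¹, c' * y 5 * c'⁻¹, isConj_iff.2 ⟨c, rfl⟩, isConj_iff.2 ⟨c', rfl⟩, ?_, ?_⟩
    · have h1 : q (c * y 5 * c⁻¹ * (c' * y 5 * c'⁻¹)) = q b := by
        rw [map_mul, map_mul, map_mul, map_inv, map_mul, map_mul, map_inv, ← ht, hg, hg', ← mul_assoc, ← hc, mul_assoc,
          hdd, mul_one]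
      rcases hq.map_eq.1 h1 with h2 | h2
      · exact Or.inl h2
      · right
        rw [h2, eq_inv_iff_mul_eq_one, mul_assoc, ← hq.comm b, ← mul_assoc, hbb, hq.zz]
    · intro x hx
      have h1 : q x * q b = q b * q x := by rw [← map_mul, hx, map_mul]
      have h2 : q (x * (c * y 5 * c⁻¹) * x⁻¹) = q x * d * (q x)⁻¹ := by
        rw [map_mul, map_mul, map_inv, map_mul, map_mul, map_inv, ← ht, hg]
      have h3 : q x * d * (q x)⁻¹ * q b = q x * (d * q b) * (q x)⁻¹ := by
        calc q x * d * (q x)⁻¹ * q b = q x * d * ((q x)⁻¹ * (q b * q x)) * (q x)⁻¹ := by group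
          _ = q x * d * ((q x)⁻¹ * (q x * q b)) * (q x)⁻¹ := by rw [h1]
          _ = _ := by group
      have h4 := huniq (q x * d * (q x)⁻¹) (hd'.trans (isConj_iff.2 ⟨q x, rfl⟩)) (by
        rw [h3]
        calc q x * (d * q b) * (q x)⁻¹ = (q x * q b) * d * (q x)⁻¹ := by rw [← hc]; group
          _ = (q b * q x) * d * (q x)⁻¹ := by rw [h1]
          _ = _ := by group) (by
        rw [h3, ← hc]
        exact hud.trans (isConj_iff.2 ⟨q x, rfl⟩))
      rcases h4 with h4 | h4
      · have h5 : q (x * (c * y 5 * c⁻¹) * x⁻¹) = q (c * y 5 * c⁻¹) := by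
          rw [h2, h4, map_mul, map_mul, map_inv, ← ht, hg]
        rcases hq.map_eq.1 h5 with h6 | h6
        · exact Or.inl h6
        · exact Or.inr (Or.inl h6)
      · have h5 : q (x * (c * y 5 * c⁻¹) * x⁻¹) = q (c' * y 5 * c'⁻¹) := by
          rw [h2, h4, map_mul, map_mul, map_inv, ← ht, hg']
        rcases hq.map_eq.1 h5 with h6 | h6
        · exact Or.inr (Or.inr (Or.inl h6))
        · exact Or.inr (Or.inr (Or.inr h6))

end

/-! ### Counting -/

/-- orbits -/
theorem card_le_mul {G : Type*} [Group G] [Finite G] (H : Subgroup G) (w : G) (s : Finset G)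
    (hs : ∀ x ∈ H, x * w * x⁻¹ ∈ s) :
    Nat.card ↥H ≤ s.card * Nat.card ↥(H ⊓ centralizer ({w} : Set G) : Subgroup G) := by
  rw [Subgroup.card_eq_card_quotient_mul_card_subgroup ((centralizer ({w} : Set G)).subgroupOf H)]
  have h1 : Nat.card ↥((centralizer ({w} : Set G)).subgroupOf H) =
      Nat.card ↥(H ⊓ centralizer ({w} : Set G) : Subgroup G) := by
    refine Nat.card_congr ⟨fun x => ⟨((x : H) : G), (x : H).2, x.2⟩, fun x => ⟨⟨(x : G), x.2.1⟩, x.2.2⟩, fun _ => rfl,
      fun _ => rfl⟩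
  rw [h1]
  apply Nat.mul_le_mul_right
  have h2 : ∀ x x' : H, x⁻¹ * x' ∈ (centralizer ({w} : Set G)).subgroupOf H ↔ (x : G) * w * (x : G)⁻¹ = x' * w * (x' : G)⁻¹ := by
    intro x x'
    rw [Subgroup.mem_subgroupOf, mem_centralizer_singleton_iff]
    show (x : G)⁻¹ * x' * w = w * ((x : G)⁻¹ * x') ↔ _
    constructor
    · intro e
      calc (x : G) * w * (x : G)⁻¹ = x * (w * ((x : G)⁻¹ * x')) * (x' : G)⁻¹ := by group
        _ = x * ((x : G)⁻¹ * x' * w) * (x' : G)⁻¹ := by rw [e]
        _ = _ := by group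
    · intro e
      calc (x : G)⁻¹ * x' * w = (x : G)⁻¹ * (x' * w * (x' : G)⁻¹) * x' := by group
        _ = (x : G)⁻¹ * (x * w * (x : G)⁻¹) * x' := by rw [e]
        _ = _ := by group
  let f : ↥H ⧸ (centralizer ({w} : Set G)).subgroupOf H → ↥(s : Set G) := fun c =>
    Quotient.liftOn' c (fun x : H => (⟨(x : G) * w * (x : G)⁻¹, hs x x.2⟩ : ↥(s : Set G))) (by
      intro a b hab
      exact Subtype.ext ((h2 a b).1 (QuotientGroup.leftRel_apply.1 hab)))
  have hf : Function.Injective f := by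
    intro a b hab
    induction a using QuotientGroup.induction_on with | _ a =>
    induction b using QuotientGroup.induction_on with | _ b =>
    exact QuotientGroup.eq.2 ((h2 a b).2 (congrArg Subtype.val hab))
  have h3 := Nat.card_le_card_of_injective f hf
  rwa [Nat.card_coe_set_eq (s : Set G), Set.ncard_coe_finset] at h3

/-- an index two -/
theorem card_two {G : Type*} [Group G] [Finite G] {P : Subgroup G} {w τ : G} (hτ : τ * τ = 1) (hτ1 : τ ≠ 1)
    (hc : ∀ x, x * τ = τ * x) (h1 : ∀ x ∈ P, x * w * x⁻¹ = w ∨ x * w * x⁻¹ = w * τ)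
    (h2 : ∃ x ∈ P, x * w * x⁻¹ = w * τ) :
    Nat.card ↥P = 2 * Nat.card ↥(P ⊓ centralizer ({w} : Set G) : Subgroup G) := by
  have h3 : ((centralizer ({w} : Set G)).subgroupOf P).index = 2 := by
    rw [Subgroup.index_eq_two_iff]
    obtain ⟨a, ha, haw⟩ := h2
    have hne : w ≠ w * τ := fun e => hτ1 (by simpa using e.symm)
    refine ⟨⟨a, ha⟩, fun b => ?_⟩
    have h4 : ∀ x : P, x ∈ (centralizer ({w} : Set G)).subgroupOf P ↔ (x : G) * w * (x : G)⁻¹ = w := by
      intro x
      rw [Subgroup.mem_subgroupOf, mem_centralizer_singleton_iff, mul_inv_eq_iff_eq_mul]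
    have h5 : ((b * ⟨a, ha⟩ : P) : G) * w * ((b * ⟨a, ha⟩ : P) : G)⁻¹ = ((b : G) * w * (b : G)⁻¹) * τ := by
      show (b : G) * a * w * ((b : G) * a)⁻¹ = _
      calc (b : G) * a * w * ((b : G) * a)⁻¹ = b * (a * w * a⁻¹) * (b : G)⁻¹ := by group
        _ = b * w * (τ * (b : G)⁻¹) := by rw [haw]; group
        _ = b * w * ((b : G)⁻¹ * τ) := by rw [hc]
        _ = _ := by group
    rw [h4, h4, h5]
    rcases h1 b b.2 with h6 | h6
    · rw [h6]
      exact Or.inr ⟨rfl, fun e => hne e.symm⟩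
    · rw [h6, mul_assoc, hτ, mul_one]
      exact Or.inl ⟨rfl, fun e => hne e.symm⟩
  have h6 := Subgroup.card_mul_index ((centralizer ({w} : Set G)).subgroupOf P)
  rw [h3] at h6
  rw [← h6, mul_comm]
  congr 1
  exact Nat.card_congr ⟨fun x => ⟨((x : P) : G), (x : P).2, x.2⟩, fun x => ⟨⟨(x : G), x.2.1⟩, x.2.2⟩, fun _ => rfl,
      fun _ => rfl⟩

section

variable {B X : Type*} [Group B] [Group X] [Finite B] [Finite X] {q : B →* X} {τ : B}

/-- the preimage of a subgroup -/
theorem card_comap (hq : _root_.Cfsg.Agent.R01.Lifts.Ext q τ) (H : Subgroup X) : Nat.card ↥(H.comap q) = 2 * Nat.card ↥H := by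
  have h1 : Nat.card ↥q.ker = 2 := by
    have h2 : q.ker = zpowers τ := by
      ext x
      rw [MonoidHom.mem_ker, hq.ker]
      constructor
      · rintro (rfl | rfl)
        · exact one_mem _
        · exact mem_zpowers _
      · intro hx
        obtain ⟨k, rfl⟩ := hx
        rcases Int.even_or_odd' k with ⟨m, rfl | rfl⟩
        · left
          show τ ^ (2 * m) = 1
          rw [zpow_mul, zpow_two, hq.zz, one_zpow]
        · right
          show τ ^ (2 * m + 1) = τ
          rw [zpow_add, zpow_mul, zpow_two, hq.zz, one_zpow, one_mul, zpow_one]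
    rw [h2, Nat.card_zpowers]
    exact orderOf_eq_prime (by rw [pow_two, hq.zz]) hq.zne
  have h3 : Nat.card B = Nat.card X * 2 := by
    rw [Subgroup.card_eq_card_quotient_mul_card_subgroup q.ker, h1,
      Nat.card_congr (QuotientGroup.quotientKerEquivOfSurjective q hq.surj).toEquiv]
  have h4 := Subgroup.card_mul_index (H.comap q)
  have h5 := Subgroup.card_mul_index H
  rw [Subgroup.index_comap_of_surjective H hq.surj, h3, ← h5] at h4
  have h6 : 0 < H.index := Nat.pos_of_ne_zero Subgroup.index_ne_zero_of_finite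
  have h7 : Nat.card ↥(H.comap q) * H.index = 2 * Nat.card ↥H * H.index := by rw [h4]; ring
  exact Nat.eq_of_mul_eq_mul_right h6 h7

/-- **The centralizer of a pair.** -/
theorem card_eq (hq : _root_.Cfsg.Agent.R01.Lifts.Ext q τ) {w w' : B} (hw : w * w = 1) (hw' : w' * w' = 1) (hsq : (w * w') * (w * w') = τ) :
    Nat.card ↥(centralizer ({q w} : Set X) ⊓ centralizer ({q w'} : Set X) : Subgroup X) =
      2 * Nat.card ↥(centralizer ({w} : Set B) ⊓ centralizer ({w'} : Set B) : Subgroup B) := by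
  set! P := (centralizer ({q w} : Set X) ⊓ centralizer ({q w'} : Set X)).comap q with hP
  have hmem : ∀ x : B, x ∈ P ↔ q x * q w = q w * q x ∧ q x * q w' = q w' * q x := by
    intro x
    rw [hP, mem_comap, mem_inf, mem_centralizer_singleton_iff, mem_centralizer_singleton_iff]
  have hc : ∀ x, x * τ = τ * x := fun x => hq.comm x
  have e1 : w' * w * w'⁻¹ = w * τ := by
    have hi : w'⁻¹ = w' := inv_eq_of_mul_eq_one_left hw'
    rw [hi, ← hsq]
    calc w' * w * w' = (w * w) * (w' * w * w') := by rw [hw, one_mul]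
      _ = _ := by group
  have e2 : w * w' * w⁻¹ = w' * τ := by
    have hi : w⁻¹ = w := inv_eq_of_mul_eq_one_left hw
    rw [hi, hc w', ← hsq]
    calc w * w' * w = w * w' * w * (w' * w') := by rw [hw', mul_one]
      _ = _ := by group
  have hcom : q w * q w' = q w' * q w := by
    have h1 := congrArg q e2
    rw [map_mul, map_mul, map_inv, map_mul, hq.mapz, mul_one] at h1
    rw [mul_inv_eq_iff_eq_mul] at h1
    exact h1
  have hwP : w ∈ P := (hmem w).2 ⟨rfl, hcom⟩
  have hwP' : w' ∈ P := (hmem w').2 ⟨hcom.symm, rfl⟩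
  have c1 := card_two (P := P) (w := w) hq.zz hq.zne hc (fun x hx => hq.conj_of_commute ((hmem x).1 hx).1)
    ⟨w', hwP', e1⟩
  have c2 := card_two (P := P ⊓ centralizer ({w} : Set B)) (w := w') hq.zz hq.zne hc
    (fun x hx => hq.conj_of_commute ((hmem x).1 hx.1).2) ⟨w, ⟨hwP, mem_centralizer_singleton_iff.2 rfl⟩, e2⟩
  have c3 := card_comap hq (centralizer ({q w} : Set X) ⊓ centralizer ({q w'} : Set X))
  rw [← hP, c1, c2] at c3
  have c4 : P ⊓ centralizer ({w} : Set B) ⊓ centralizer ({w'} : Set B) =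
      centralizer ({w} : Set B) ⊓ centralizer ({w'} : Set B) := by
    apply le_antisymm
    · exact fun x hx => ⟨hx.1.2, hx.2⟩
    · intro x hx
      refine ⟨⟨(hmem x).2 ⟨?_, ?_⟩, hx.1⟩, hx.2⟩
      · rw [← map_mul, mem_centralizer_singleton_iff.1 hx.1, map_mul]
      · rw [← map_mul, mem_centralizer_singleton_iff.1 hx.2, map_mul]
  rw [c4] at c3
  omega

end

end Cfsg.Agent.H909.PwM.Pair
end

-- part: H909/PwM/SchB
section
/-!
# The order of the centralizer of two transpositions of the Baby Monster (helper909)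

`exists_val` : `|C(t) ∩ C(s)| v = |C(t)|` for one of the five valencies `v`.
-/

set_option autoImplicit false
set_option maxRecDepth 100000

open Subgroup

namespace Cfsg.Agent.H909.PwM.SchB

open Cfsg Cfsg.Agent.BabyM.Inst Cfsg.Agent.H877.SK.B.Sch Cfsg.Agent.BabyM

theorem exists_val {t s : Spor.BabyMonster}
    (ht : IsConj (PresentedGroup.of Spor.BabyMonster.Gen.t1 : Spor.BabyMonster) t)
    (hs : IsConj (PresentedGroup.of Spor.BabyMonster.Gen.t1 : Spor.BabyMonster) s) :
    ∃ j : Fin 5, Nat.card ↥(centralizer ({t} : Set Spor.BabyMonster) ⊓ centralizer ({s} : Set Spor.BabyMonster) :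
      Subgroup Spor.BabyMonster) * vv j = 306129918735099415756800 := by
  have h0 : IsConj T (BM.KHAll.iso (PresentedGroup.of Spor.BabyMonster.Gen.t1 : Spor.BabyMonster)) := by
    have h1 := BM.KH.conj_x Spor.BabyMonster.Gen.t1
    rw [← BM.KHAll.iso_gB] at h1
    exact h1
  obtain ⟨a, ha⟩ := isConj_iff.1 (h0.trans (BM.KHAll.iso.toMonoidHom.map_isConj ht))
  obtain ⟨b, hb⟩ := isConj_iff.1 (h0.trans (BM.KHAll.iso.toMonoidHom.map_isConj hs))
  let e := BM.KHAll.iso.trans (MulAut.conj a⁻¹)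
  have he1 : e t = T := by
    show a⁻¹ * BM.KHAll.iso t * a⁻¹⁻¹ = T
    have : BM.KHAll.iso t = a * T * a⁻¹ := ha.symm
    rw [this]; group
  have he2 : e s = (a⁻¹ * b) * T * (a⁻¹ * b)⁻¹ := by
    show a⁻¹ * BM.KHAll.iso s * a⁻¹⁻¹ = _
    have : BM.KHAll.iso s = b * T * b⁻¹ := hb.symm
    rw [this]; group
  rw [conj_cent e t s, he1, he2]
  exact ⟨_, (card_mul (a⁻¹ * b)).trans (Instance.all.card_cent Instance.tr)⟩

end Cfsg.Agent.H909.PwM.SchB
end

-- part: H909/PwM/SchM
section
/-!
# The order of the centralizer of two `2A`-involutions of the Monster (helper909)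

`card_mul` : `|C(s) ∩ C(s')|` from the colour of the pair.
-/

set_option autoImplicit false
set_option maxRecDepth 100000

namespace Cfsg.Agent.H909.PwM.SchM

open Cfsg Cfsg.Agent.MonsterX Cfsg.Agent.MonsterX.InstData Cfsg.Agent.MonsterX.MainPack
open Cfsg.Agent.MonsterX.Model Cfsg.Agent.MonsterX.MainBasic
open Cfsg.Agent.H816.MSch Cfsg.Agent.H816.MEnt Cfsg.Agent.H816.IMEig
open Cfsg.Agent.H444.FprM (MG card_M)
open Cfsg.Agent.H715.Mon.Colour
open Subgroup (centralizer mem_centralizer_singleton_iff)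

theorem stab {s s' : MG} (hs : IsT s) (hs' : IsT s') :
    MulAction.stabilizer MG (ax s, ax s') = centralizer ({s} : Set MG) ⊓ centralizer ({s'} : Set MG) := by
  have h1 : ∀ {s : MG} (_ : IsT s) (g : MG), g • ax s = ax s ↔ g * s = s * g := by
    intro s hs g
    constructor
    · intro h
      rw [← ax_conj hs] at h
      exact mul_inv_eq_iff_eq_mul.1 (ax_inj (hs.conj g) hs h)
    · exact smul_ax hs
  ext g
  rw [MulAction.mem_stabilizer_iff, Subgroup.mem_inf, mem_centralizer_singleton_iff, mem_centralizer_singleton_iff,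
    ← h1 hs, ← h1 hs', Prod.smul_mk, Prod.mk.injEq]

/-- **The centralizer of a pair.** -/
theorem card_mul {s s' : MG} (hs : IsT s) (hs' : IsT s') :
    97239461142009186000 * k (ka s s') *
      Nat.card ↥(centralizer ({s} : Set MG) ⊓ centralizer ({s'} : Set MG) : Subgroup MG) =
        808017424794512875886459904961710757005754368000000000 := by
  have hf := Cfsg.Agent.H444.FprM.finite
  have h1 : Nat.card (MulAction.orbit MG (ax s, ax s')) = 97239461142009186000 * k (ka s s') := by
    rw [← card_pairs]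
    apply Nat.card_congr
    refine ⟨fun p => ⟨p.1, ?_⟩, fun p => ⟨p.1, ?_⟩, fun _ => rfl, fun _ => rfl⟩
    · obtain ⟨_, ⟨g, rfl⟩⟩ := p
      exact c_inv g _ _
    · obtain ⟨⟨a, b⟩, hab⟩ := p
      obtain ⟨g, hg1, hg2⟩ := c_tr (ax s) (ax s') a b hab.symm
      exact ⟨g, Prod.ext hg1 hg2⟩
  have h3 := Nat.card_congr (MulAction.orbitProdStabilizerEquivGroup MG (ax s, ax s'))
  rw [Nat.card_prod, h1, stab hs hs', card_M] at h3
  exact h3

end Cfsg.Agent.H909.PwM.SchM
end

-- part: H909/PwM/TwoA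
section
/-!
# Elements of the Monster with square a `2A`-involution (helper909)

`card_cent_le` : `|C(h)| ≤ 26489012826931200` if `h * h` is in the class `2A`.
-/

set_option autoImplicit false
set_option maxRecDepth 100000

namespace Cfsg.Agent.H909.PwM.TwoA

open Cfsg Cfsg.Agent.MonsterX Cfsg.Agent.MonsterX.InstData Cfsg.Agent.MonsterX.MainPack Cfsg.Agent.MonsterU
open Cfsg.Agent.MonsterN Cfsg.Agent.LThreeMB Cfsg.Agent.BabyComp Cfsg.Agent.MonsterN.LitInst
open Cfsg.Agent.BabyComp.Main Cfsg.Agent.BabyComp.BaseTwo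
open Cfsg.Agent.MonsterX.MainBasic Cfsg.Agent.MonsterX.Model
open Cfsg.Agent.BpSpor.MBigModel (MG zz cls card_cent_z)
open Cfsg.Agent.H713.Spor
open Subgroup (centralizer zpowers mem_centralizer_singleton_iff card_map_of_injective mem_zpowers)

/-- the numbers -/
theorem numbers {a : ℕ} {i : Fin 9} {j : Fin 5} (h1 : 2 * a * H877.SK.B.Sch.vv j = 306129918735099415756800)
    (h2 : 97239461142009186000 * H816.MSch.k i * a = 808017424794512875886459904961710757005754368000000000) :
    4 * a ≤ 26489012826931200 := by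
  have hv : H877.SK.B.Sch.vv j = 1 ∨ H877.SK.B.Sch.vv j = 3968055 ∨ 23113728 ≤ H877.SK.B.Sch.vv j := by
    clear h1
    revert j; decide
  have hk : H816.MSch.k i = 1 ∨ H816.MSch.k i = 27143910000 ∨ H816.MSch.k i = 11707448673375 ∨
      H816.MSch.k i = 2031941058560000 ∨ H816.MSch.k i = 91569524834304000 ∨ H816.MSch.k i = 1102935324621312000 ∨
      H816.MSch.k i = 1254793905192960000 ∨ H816.MSch.k i = 30434513446055706624 ∨
      H816.MSch.k i = 64353605265653760000 := by
    clear h2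
    revert i; decide
  rcases hv with hv | hv | hv
  · exfalso
    rw [hv] at h1
    rcases hk with hk | hk | hk | hk | hk | hk | hk | hk | hk <;> rw [hk] at h2 <;> (clear * - h1 h2; (solve | lia | omega))
  · exfalso
    rw [hv] at h1
    rcases hk with hk | hk | hk | hk | hk | hk | hk | hk | hk <;> rw [hk] at h2 <;> (clear * - h1 h2; omega)
  · have h3 : 2 * a * 23113728 ≤ 306129918735099415756800 := by
      rw [← h1]
      exact Nat.mul_le_mul_left _ hv
    omega

/-- an involution commuting with an element of order 17 -/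
theorem isT {y s : MG} (hy : orderOf y = 17) (hs : orderOf s = 2) (h : s * y = y * s) :
    H715.Mon.Colour.IsT s := by
  have hfin := BpSpor.MBigModel.finite
  rcases cls hs with ⟨k, hk⟩ | hv
  · exfalso
    have h1 : orderOf y ∣ Nat.card ↥(centralizer ({s} : Set MG)) := by
      rw [← Subgroup.orderOf_mk y (mem_centralizer_singleton_iff.2 h.symm)]
      exact orderOf_dvd_natCard _
    rw [← hk, Cfsg.Agent.BpSpor.card_cent_of_conj (rfl : k * zz * k⁻¹ = _), card_cent_z, hy] at h1
    norm_num at h1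
  · obtain ⟨g, hg⟩ := isConj_iff.1 (show IsConj (tG LitFin.all.hG LitFin.all.hR) s from hv)
    exact ⟨g, hg⟩

theorem key : ∃ τ : MG, LThreeB.Row.TA τ ∧ ∀ b : MG, b * b = τ →
    Nat.card ↥(centralizer ({b} : Set MG)) ≤ 26489012826931200 := by
  refine CTwoTab.BInst.elim ?_
  intro K iF iT hK hF i1 i2 i3 i4 q y h π f₁ f₂ f₃ f₄ M₁ hq h10 DK Fc hz hcz hcd hL hc5 big hq5 hcard Bs hr
  obtain ⟨M₂, Bs2⟩ := BaseTwo.exists_base2 hq5
  set! θ := (BB KDone.K KLinkInst.x₀).subtype with hθ; rewrite [← hθ] at hr hcd hcz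
  have hinj : Function.Injective θ := Subtype.val_injective
  refine ⟨θ (tb KDone.K KLinkInst.x₀), (LThreeB.Par.ta_iota LitFin.all KDone.lnk KDone.lft :), fun b hb => ?_⟩
  set! τ := tb KDone.K KLinkInst.x₀ with hτ; rewrite [← hτ] at hb hr hcz big Fc h10 hq
  have hbτ : b * θ τ = θ τ * b := by rw [← hb, mul_assoc]
  obtain ⟨b', rfl⟩ := hr b hbτ
  have hb' : b' * b' = τ := hinj (by rw [map_mul, hb])
  obtain ⟨w, w', hw, hw', hww, horb⟩ := Pair.exists_pair (hF := hF)
    (Cfsg.Agent.TwoESix.LeviG.rootFacts hK hF) (Cfsg.Agent.BabyU.KeyInst.extra hF)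
    (Cfsg.Agent.TwoESix.RootsInst.roots K hF) hq h10 DK big Bs2 hb'
  have h55 : y 5 * y 5 = 1 := h.sq 5 (by norm_num) (by norm_num)
  have hsqc : ∀ {v : BB KDone.K KLinkInst.x₀}, IsConj (y 5) v → v * v = 1 := by
    intro v hv
    obtain ⟨c, rfl⟩ := isConj_iff.1 hv
    calc c * y 5 * c⁻¹ * (c * y 5 * c⁻¹) = c * (y 5 * y 5) * c⁻¹ := by group
      _ = 1 := by rw [h55]; group
  have hsq : (w * w') * (w * w') = τ := by
    rcases hww with h1 | h1
    · rw [h1, hb']
    · rw [h1, ← mul_inv_rev, hb']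
      exact inv_eq_of_mul_eq_one_left hq.zz
  -- the class of `y 5`
  have hT5 : H715.Mon.Colour.IsT (θ (y 5)) := by
    have h17 : Fact (Nat.Prime 17) := ⟨by norm_num⟩
    obtain ⟨x, hx⟩ := exists_prime_orderOf_dvd_card' (G := ↥(centralizer ({q (y 5)} : Set Spor.BabyMonster))) 17
      (by rw [hcard]; norm_num)
    have hx' : orderOf (x : Spor.BabyMonster) = 17 := by rw [Subgroup.orderOf_coe, hx]
    obtain ⟨x₀, hx₀, hqx⟩ := BOf.exists_lift hq (p := 17) (by decide) (v := (x : Spor.BabyMonster))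
      (by rw [← hx', pow_orderOf_eq_one])
    have hx₁ : x₀ ≠ 1 := by
      rintro rfl
      rw [map_one] at hqx
      rw [← hqx, orderOf_one] at hx'
      norm_num at hx'
    have hcm : y 5 * x₀ = x₀ * y 5 := BOf.comm_of_map hq (p := 17) (by decide) hx₀ (by
      rw [hqx]; exact (mem_centralizer_singleton_iff.1 x.2).symm)
    refine isT (y := θ x₀) ?_ ?_ ?_
    · rw [orderOf_injective θ hinj]
      exact orderOf_eq_prime hx₀ hx₁
    · rw [orderOf_injective θ hinj]
      refine orderOf_eq_prime (by rw [pow_two, h55]) ?_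
      intro h1
      rw [h1, map_one] at hcard
      have h6 : centralizer ({1} : Set Spor.BabyMonster) = ⊤ := by
        rw [eq_top_iff]
        intro g _
        rw [mem_centralizer_singleton_iff, mul_one, one_mul]
      rw [h6, Subgroup.card_top, B.card_b] at hcard
      norm_num at hcard
    · rw [← map_mul, hcm, map_mul]
  have hTc : ∀ {v : BB KDone.K KLinkInst.x₀}, IsConj (y 5) v → H715.Mon.Colour.IsT (θ v) := by
    intro v hv
    obtain ⟨c, rfl⟩ := isConj_iff.1 hv
    rw [map_mul, map_mul, map_inv]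
    exact hT5.conj _
  -- the two counts
  have hcθ : ∀ x : MG, x * θ τ = θ τ * x → ∃ x', θ x' = x := hr
  have e1 := Pair.card_eq hq (hsqc hw) (hsqc hw') hsq
  have e2 : Nat.card ↥(centralizer ({w} : Set (BB KDone.K KLinkInst.x₀)) ⊓ centralizer ({w'} : Set _) : Subgroup _) =
      Nat.card ↥(centralizer ({θ w} : Set MG) ⊓ centralizer ({θ w'} : Set MG) : Subgroup MG) := by
    rw [← card_map_of_injective (f := θ) hinj]
    congr 2
    ext x
    constructor
    · rintro ⟨x, ⟨hx, hx'⟩, rfl⟩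
      refine ⟨mem_centralizer_singleton_iff.2 ?_, mem_centralizer_singleton_iff.2 ?_⟩
      · rw [← map_mul, mem_centralizer_singleton_iff.1 hx, map_mul]
      · rw [← map_mul, mem_centralizer_singleton_iff.1 hx', map_mul]
    · rintro ⟨hx, hx'⟩
      have c1 : Commute x (θ w) := mem_centralizer_singleton_iff.1 hx
      have c2 : Commute x (θ w') := mem_centralizer_singleton_iff.1 hx'
      have c3 : Commute x (θ τ) := by
        rw [← hsq, map_mul, map_mul]
        exact (c1.mul_right c2).mul_right (c1.mul_right c2)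
      obtain ⟨x, rfl⟩ := hcθ x c3.eq
      refine ⟨x, ⟨mem_centralizer_singleton_iff.2 (hinj ?_), mem_centralizer_singleton_iff.2 (hinj ?_)⟩, rfl⟩
      · rw [map_mul, map_mul, c1.eq]
      · rw [map_mul, map_mul, c2.eq]
  obtain ⟨j, hj⟩ := SchB.exists_val (t := q w) (s := q w') (hq5.symm.trans (q.map_isConj hw))
    (hq5.symm.trans (q.map_isConj hw'))
  rw [e1, e2] at hj
  have h4 := numbers hj (SchM.card_mul (hTc hw) (hTc hw'))
  refine le_trans ?_ h4
  -- the orbit of `w`
  classical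
  let s : Finset MG := {θ w, θ (w * τ), θ w', θ (w' * τ)}
  have hs : ∀ x ∈ centralizer ({θ b'} : Set MG), x * θ w * x⁻¹ ∈ s := by
    intro x hx
    have c1 : Commute x (θ b') := mem_centralizer_singleton_iff.1 hx
    have c3 : Commute x (θ τ) := by
      rw [← hb', map_mul]
      exact c1.mul_right c1
    obtain ⟨x, rfl⟩ := hcθ x c3.eq
    have h5 := horb x (hinj (by rw [map_mul, map_mul, c1.eq]))
    have h7 : θ x * θ w * (θ x)⁻¹ = θ (x * w * x⁻¹) := by rw [map_mul, map_mul, map_inv]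
    have h8 : ∀ v, v = θ w ∨ v = θ (w * τ) ∨ v = θ w' ∨ v = θ (w' * τ) → v ∈ s := by
      intro v hv
      rcases hv with rfl | rfl | rfl | rfl
      · exact Finset.mem_insert_self _ _
      · exact Finset.mem_insert_of_mem (Finset.mem_insert_self _ _)
      · exact Finset.mem_insert_of_mem (Finset.mem_insert_of_mem (Finset.mem_insert_self _ _))
      · exact Finset.mem_insert_of_mem (Finset.mem_insert_of_mem (Finset.mem_insert_of_mem (Finset.mem_singleton_self _)))
    apply h8
    rw [h7]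
    rcases h5 with h5 | h5 | h5 | h5
    · exact Or.inl (by rw [h5])
    · exact Or.inr (Or.inl (by rw [h5]))
    · exact Or.inr (Or.inr (Or.inl (by rw [h5])))
    · exact Or.inr (Or.inr (Or.inr (by rw [h5])))
  have h6 := Pair.card_le_mul (centralizer ({θ b'} : Set MG)) (θ w) s hs
  refine le_trans h6 (Nat.mul_le_mul Finset.card_le_four (Subgroup.card_le_of_le ?_))
  rintro x ⟨hx, hx'⟩
  have c1 : Commute x (θ b') := mem_centralizer_singleton_iff.1 hx
  have c2 : Commute x (θ w) := mem_centralizer_singleton_iff.1 hx'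
  refine ⟨hx', mem_centralizer_singleton_iff.2 ?_⟩
  rcases hww with h5 | h5
  · have h7 : θ w' = (θ w)⁻¹ * θ b' := by rw [← h5, map_mul]; group
    rw [h7]
    exact (c2.inv_right.mul_right c1).eq
  · have h7 : θ w' = (θ w)⁻¹ * (θ b')⁻¹ := by rw [← map_inv θ b', ← h5, map_mul]; group
    rw [h7]
    exact (c2.inv_right.mul_right c1.inv_right).eq

/-- **Square roots of a `2A`-involution.** -/
theorem card_cent_le {b v : MG} (hb : b * b = v) (hv : LThreeB.Row.TA v) :
    Nat.card ↥(centralizer ({b} : Set MG)) ≤ 26489012826931200 := by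
  obtain ⟨τ, hτ, hk⟩ := key
  have h1 : IsConj v τ := (show IsConj (tG LitFin.all.hG LitFin.all.hR) v from hv).symm.trans hτ
  obtain ⟨g, hg⟩ := isConj_iff.1 h1
  rw [← Cfsg.Agent.BpSpor.card_cent_of_conj (rfl : g * b * g⁻¹ = _)]
  refine hk _ ?_
  rw [← hg, ← hb]
  group

end Cfsg.Agent.H909.PwM.TwoA
end
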