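import Cfsg.Agent.H6.ORE.CoOne
import Cfsg.Agent.H861.RCoD
import Cfsg.Agent.KFacts.Co1D4.Main
import Cfsg.Agent.CoOneType.Final
import Cfsg.Agent.LThreeMB.Fix
import Cfsg.Agent.ThFive.Abs
import Cfsg.Agent.Prune
set_option linter.all false
prune_inst 0x7f00000000000000000000000000000000000000000000000000000000000000000000000000000000000000000000000000000000000000000000000000000000000000000000000000000000000000003fffffffffffffffffffffffffffbeffbdffffffff
open scoped Cfsg.Agent.FastGrp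

/-!
# Involutions of `Co1` and their fixed points on `Λ/2Λ` (helper909)

`bd_two` : `2 fr(x) |C(x)| ≤ 26489012826931200` for every involution `x` of `Co1` (class 2A: `fr ≤ 2 ^ 16`,
class 2B: `fr ≤ 2 ^ 12`).
-/

set_option autoImplicit false
set_option maxRecDepth 100000

namespace Cfsg.Agent.H909.PwM.FrTwo

open Cfsg Cfsg.Agent.SporadicA Cfsg.Agent.SporadicStructure.Co0Matrix
open Cfsg.Agent.SporadicA.Co0Mono hiding smul_add smul_zero mk_smul
open Cfsg.Agent.CoOneType.CoEval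
open Cfsg.Agent.LThreeMB Cfsg.Agent.LThreeMB.Fix
open Cfsg.Agent.MonsterU.Lam2
open Cfsg.Agent.SporadicA.Co1Simple (allOne)
open Cfsg.Agent.CoOneType.GenCrit (c0 m0)
open Cfsg.Spor (Co1)

/-- `v ↦ s v + v` -/
noncomputable def DD (s : Co1) : L2 →+ L2 where
  toFun v := s • v + v
  map_zero' := by rw [smul_zero, add_zero]
  map_add' v w := by rw [smul_add]; abel

theorem DD_apply (s : Co1) (v : L2) : DD s v = s • v + v := rfl

theorem DD_eq_zero {s : Co1} {v : L2} : DD s v = 0 ↔ s • v = v := by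
  rw [DD_apply]
  constructor
  · exact eq_of_add_eq_zero
  · intro h; rw [h, add_self]

theorem card_mul (s : Co1) : fr s * Nat.card (DD s).range = 2 ^ 24 := by
  have h1 : fr s = Nat.card (DD s).ker := by
    unfold fr
    exact Nat.card_congr (Equiv.subtypeEquivRight fun v => DD_eq_zero.symm)
  have h2 := AddSubgroup.card_eq_card_quotient_mul_card_addSubgroup (DD s).ker
  rw [Nat.card_congr (QuotientAddGroup.quotientKerEquivRange (DD s)).toEquiv, card_L2] at h2
  rw [h1, h2, mul_comm]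

/-- independent vectors -/
theorem pow_le {vw : List (List ℤ × List ℤ)} (hL : latB vw = true) (hD : dualB vw = true) {W : AddSubgroup L2}
    (hW : ∀ j, vv vw j ∈ W) : 2 ^ vw.length ≤ Nat.card W := by
  have hfin : Finite L2 := Nat.finite_of_card_ne_zero (by rw [card_L2]; norm_num)
  have h0 : Nat.card (Fin vw.length → ZMod 2) = 2 ^ vw.length := by
    rw [Nat.card_eq_fintype_card, Fintype.card_fun, Fintype.card_fin, ZMod.card]
  rw [← h0]
  refine Nat.card_le_card_of_injective (fun c => (⟨∑ j : Fin vw.length, c j • vv vw j, ?_⟩ : W)) ?_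
  · refine AddSubgroup.sum_mem W fun j _ => ?_
    have : c j = 0 ∨ c j = 1 := by generalize c j = a; revert a; decide
    rcases this with h | h
    · rw [h, zero_smul]; exact W.zero_mem
    · rw [h, one_smul]; exact hW j
  · intro c d hcd
    have hcd' : (∑ j : Fin vw.length, c j • vv vw j) = ∑ j : Fin vw.length, d j • vv vw j := congrArg Subtype.val hcd
    funext i
    let φ : L2 →+ ZMod 2 :=
      { toFun := fun x => bf x (ww vw i)
        map_zero' := bf_zero_left _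
        map_add' := fun x y => bf_add_left x y _ }
    have key : ∀ c : Fin vw.length → ZMod 2, φ (∑ j : Fin vw.length, c j • vv vw j) = c i := by
      intro c
      rw [map_sum]
      have h1 : ∀ (a : ZMod 2) (y : L2), φ (a • y) = a * φ y := by
        intro a y
        have : a = 0 ∨ a = 1 := by revert a; decide
        rcases this with rfl | rfl
        · rw [zero_smul, zero_mul, map_zero]
        · rw [one_smul, one_mul]
      simp only [h1]
      have h2 : ∀ j, φ (vv vw j) = if j = i then 1 else 0 := fun j => bf_vw hL hD j i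
      simp only [h2, mul_ite, mul_one, mul_zero, Finset.sum_ite_eq', Finset.mem_univ, if_true]
    rw [← key c, ← key d, hcd']

/-! ### Class 2A -/

/-- sign change on lists -/
def epsL (m : ℕ) (l : List ℤ) : List ℤ := (List.range 24).map fun i => if m.testBit i then -(l.getD i 0) else l.getD i 0

/-- `ε l - l` -/
def imL (l : List ℤ) : List ℤ := addL (epsL m0 l) (mulL (-1) l)

/-- lattice vectors and dual vectors -/
def uw : List (List ℤ × List ℤ) := [
  ([2, 2, 0, 0, 0, 0, 0, 0, 0, 0, 0, 0, 0, 2, 0, 2, 0, 2, 2, 2, 0, 0, 0, 2],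
   [-1, 3, -3, -3, -3, -5, 1, 1, 1, -3, 1, 5, -3, -3, 3, 3, -3, 1, 1, -1, 3, 3, 1, -3]),
  ([2, 0, 2, 0, 0, 0, 0, 0, 0, 0, 0, 0, 0, 2, 2, 2, 2, 2, 0, 0, 2, 0, 0, 0],
   [-1, -3, -1, 1, 1, 3, 3, 1, 1, -1, 1, 5, 1, -3, 1, 5, 1, -1, 1, 1, 3, 3, 1, -3]),
  ([0, 2, 2, 0, 0, 0, 0, 0, 0, 0, 0, 0, 0, 0, 2, 0, 2, 0, 2, 2, 2, 0, 0, 2],
   [-3, -1, -1, -1, -1, -1, 1, -1, 1, -1, -1, 1, 1, -1, -1, 1, 1, -1, 1, -1, 1, 1, 1, 1]),
  ([2, 0, 0, 2, 0, 0, 0, 0, 0, 0, 0, 0, 0, 2, 2, 0, 2, 0, 0, 2, 0, 2, 0, 2],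
   [-4, -4, -4, -2, -4, 0, 4, 0, 2, 0, 0, 4, 2, 0, 0, -2, -2, -2, 0, 0, -2, 0, 2, 4]),
  ([2, 0, 0, 0, 2, 0, 0, 0, 0, 0, 0, 0, 0, 2, 2, 0, 0, 0, 2, 2, 2, 0, 2, 0],
   [2, -2, -2, -2, 0, 2, 0, 2, 0, -2, 2, 0, 0, 0, 0, 0, 0, 2, -2, 0, 2, 0, 2, -4]),
  ([2, 0, 0, 0, 0, 0, 0, 2, 0, 0, 0, 0, 0, 0, 0, 2, 2, 0, 0, 2, 2, 0, 2, 2],
   [2, -2, -2, -2, -2, 0, 2, 0, 2, 0, -2, 2, 0, 0, 0, 0, 0, 0, 2, -2, 0, 2, 0, 0]),
  ([2, 0, 0, 0, 0, 0, 0, 0, 0, 0, 2, 0, 0, 0, 0, 2, 0, 2, 2, 0, 2, 2, 2, 0],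
   [-4, 0, -4, 0, 0, 4, 0, 0, 0, 2, 2, 2, -2, -2, 0, 0, -2, 0, 0, -2, 0, 2, -4, 0]),
  ([1, 1, 1, 1, 1, 1, 1, 1, 1, 1, 1, 1, 1, 1, 1, 1, 1, 1, 1, 1, 1, 1, 1, -3],
   [4, 0, 0, 0, 0, 0, 0, 0, 0, 0, 0, 0, 0, 0, 0, 0, 0, 0, 0, 0, 0, 0, 0, -4])]

/-- the images -/
def vw : List (List ℤ × List ℤ) := uw.map fun p => (imL p.1, p.2)

theorem lat_uw : latB uw = true := by decide +kernel
theorem lat_vw : latB vw = true := by decide +kernel
theorem dual_vw : dualB vw = true := by decide +kernel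

theorem vec_epsL (l : List ℤ) : vec (epsL m0 l) = signMap c0 (vec l) := by
  funext p
  rw [epsL, getD_range_map]
  show _ = sgn (GolayBase.word m0 p) * vec l p
  rw [Cfsg.Agent.CoOneType.Thirteen.sgn_word]
  split_ifs
  · rw [neg_one_mul]; rfl
  · rw [one_mul]; rfl

theorem mem_range {l : List ℤ} (hl : leechB l = true) (hl' : leechB (imL l) = true) :
    cl (el (imL l)) ∈ (DD (QuotientGroup.mk (signCo0 c0) : Co1)).range := by
  refine ⟨cl (el l), ?_⟩
  rw [DD_apply, mk_smul, smul_cl, ← map_add, ← sub_eq_zero, ← map_sub]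
  rw [cl_eq_zero]
  refine ⟨el l, Subtype.ext ?_⟩
  rw [AddSubgroup.coe_sub, AddSubgroup.coe_add, signCo0_smul, el_coe hl, el_coe hl', imL, vec_addL, vec_mulL, vec_epsL,
    two_nsmul, AddSubgroup.coe_add, el_coe hl, neg_one_zsmul]
  abel

theorem fr_A : fr (QuotientGroup.mk (signCo0 c0) : Co1) ≤ 2 ^ 16 := by
  have h1 := card_mul (QuotientGroup.mk (signCo0 c0) : Co1)
  have h2 : 2 ^ vw.length ≤ Nat.card (DD (QuotientGroup.mk (signCo0 c0) : Co1)).range := by
    refine pow_le lat_vw dual_vw fun j => ?_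
    have h3 : (vw.get j) ∈ vw := List.get_mem vw j
    obtain ⟨p, hp, hpe⟩ := List.mem_map.1 h3
    have h4 := (lat_spec lat_uw hp).1
    have h5 := (lat_spec lat_vw h3).1
    rw [vv, ← hpe]
    rw [← hpe] at h5
    exact mem_range h4 h5
  rw [show vw.length = 8 from rfl] at h2
  by_contra hcon
  push Not at hcon
  have h6 : (2 ^ 16 + 1) * 2 ^ 8 ≤ fr (QuotientGroup.mk (signCo0 c0) : Co1) *
      Nat.card (DD (QuotientGroup.mk (signCo0 c0) : Co1)).range := Nat.mul_le_mul hcon h2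
  rw [h1] at h6
  norm_num at h6

/-! ### Class 2B -/

theorem fr_B {b : Co0} (hb : b * b = signCo0 allOne) : fr (QuotientGroup.mk b : Co1) ≤ 2 ^ 12 := by
  have hfin : Finite L2 := Nat.finite_of_card_ne_zero (by rw [card_L2]; norm_num)
  set s : Co1 := QuotientGroup.mk b with hs
  have h1 := card_mul s
  have h2 : fr s ≤ Nat.card (DD s).range := by
    unfold fr
    refine Nat.card_le_card_of_injective (fun v => (⟨(v : L2), ?_⟩ : (DD s).range)) fun v w h => ?_
    · obtain ⟨u, hu⟩ := cl_surjective (v : L2)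
      have h3 := v.2
      rw [← hu, hs, mk_smul, smul_cl, cl_eq] at h3
      obtain ⟨w, hw⟩ := h3
      refine ⟨cl w, ?_⟩
      have hsw : s • cl w = cl (b • w) := by rw [hs, mk_smul, smul_cl]
      rw [DD_apply, hsw, ← map_add, ← hu, cl_eq]
      have hb2 : ∀ x : leechLattice, b • b • x = -x := by
        intro x
        rw [← mul_smul, hb]
        exact Cfsg.Agent.SporadicA.Co1Simple.allOne_smul x
      have e1 : b • u = u + 2 • w := by rw [← hw]; abel
      have e2 : b • b • u = b • u + 2 • (b • w) := by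
        conv_lhs => rw [e1, two_nsmul, Cfsg.Agent.SporadicA.Co0Mono.smul_add, Cfsg.Agent.SporadicA.Co0Mono.smul_add]
        rw [two_nsmul]
      rw [hb2, e1] at e2
      -- `-u = u + 2 w + 2 b w`
      have e3 : 2 • (b • w + w + u) = 0 := by
        have : 2 • (b • w + w + u) = (u + 2 • w + 2 • (b • w)) - (-u) := by
          rw [two_nsmul, two_nsmul, two_nsmul]; abel
        rw [this, ← e2, sub_self]
      have e4 : b • w + w + u = 0 := by
        apply Subtype.ext
        have h5 := congrArg (fun x : leechLattice => (x : GolayPt → ℤ)) e3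
        funext p
        have h6 := congrFun h5 p
        have h7 : 2 * ((b • w + w + u : leechLattice) : GolayPt → ℤ) p = 0 := by
          rw [two_mul]
          rw [two_nsmul] at h6
          exact h6
        show ((b • w + w + u : leechLattice) : GolayPt → ℤ) p = 0
        omega
      exact ⟨-u, by
        have : b • w + w = -u := eq_neg_of_add_eq_zero_left e4
        rw [this, two_nsmul]; abel⟩
    · exact Subtype.ext (congrArg (fun x : (DD s).range => (x : L2)) h)
  by_contra hcon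
  push Not at hcon
  have h3 : (2 ^ 12 + 1) * (2 ^ 12 + 1) ≤ fr s * Nat.card (DD s).range := Nat.mul_le_mul hcon (le_trans hcon h2)
  rw [h1] at h3
  norm_num at h3

theorem fr_le (s : Co1) : fr s ≤ 2 ^ 24 := by
  rw [← card_L2]
  have hfin : Finite L2 := Nat.finite_of_card_ne_zero (by rw [card_L2]; norm_num)
  exact Nat.card_le_card_of_injective (fun v : {v : L2 // s • v = v} => (v : L2)) Subtype.val_injective

/-! ### The bound -/

theorem fin0 : Finite Co0 := Cfsg.Agent.CoOneType.FrameFix.finite_co0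

theorem fin1 : Finite Co1 := by
  have := fin0
  exact Quotient.finite _

theorem cent_le (g : Co0) : Nat.card ↥(Subgroup.centralizer ({(QuotientGroup.mk g : Co1)} : Set Co1)) ≤
    Nat.card ↥(Subgroup.centralizer ({g} : Set Co0)) := by
  have := fin0
  have := fin1
  exact Cfsg.Agent.CoOneType.Goursat.card_centralizer_le (QuotientGroup.mk' (Subgroup.center Co0))
    (QuotientGroup.mk'_surjective _) g

/-- **Involutions of `Co1`.** -/
theorem bd_two {x : Co1} (hx : orderOf x = 2) :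
    fr x * 2 * Nat.card ↥(Subgroup.centralizer ({x} : Set Co1)) ≤ 26489012826931200 := by
  have := fin0
  have := fin1
  have hxx : x * x = 1 := by rw [← pow_two, ← hx, pow_orderOf_eq_one]
  have hx1 : x ≠ 1 := by
    rintro rfl
    rw [orderOf_one] at hx
    norm_num at hx
  rcases Cfsg.Agent.KFacts.Co1D4.Base.cases x hxx hx1 with ⟨g, c, hc, h⟩ | ⟨g, c, hc, h⟩ | ⟨g, h⟩
  · have h1 : IsConj (QuotientGroup.mk (signCo0 c0) : Co1) x :=
      (Cfsg.Agent.CoOneType.ClosingFacts.isConj_octad Cfsg.Agent.H812.CoFiveData.wt_c0 hc).trans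
        (isConj_iff.2 ⟨g, h⟩)
    obtain ⟨k, hk⟩ := isConj_iff.1 h1
    rw [← hk, fr_conj, Cfsg.Agent.BpSpor.card_cent_of_conj (rfl : k * _ * k⁻¹ = _)]
    have h2 : Nat.card ↥(Subgroup.centralizer ({(QuotientGroup.mk (signCo0 c0) : Co1)} : Set Co1)) = 89181388800 :=
      Cfsg.Agent.H6.ORE.CoOne.card_cent
    rw [h2]
    calc _ ≤ 2 ^ 16 * 2 * 89181388800 := Nat.mul_le_mul_right _ (Nat.mul_le_mul_right _ fr_A)
      _ ≤ _ := by norm_num
  · rw [← h, fr_conj, Cfsg.Agent.BpSpor.card_cent_of_conj (rfl : g * _ * g⁻¹ = _)]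
    have h2 := cent_le (signCo0 c)
    have h3 := Cfsg.Agent.H861.RCoD.card_C c hc
    have h4 : Nat.card ↥(Subgroup.centralizer ({(QuotientGroup.mk (signCo0 c) : Co1)} : Set Co1)) ≤ 389283840 := by omega
    calc _ ≤ 2 ^ 24 * 2 * 389283840 := Nat.mul_le_mul (Nat.mul_le_mul_right _ (fr_le _)) h4
      _ ≤ _ := by norm_num
  · rw [← h, fr_conj, Cfsg.Agent.BpSpor.card_cent_of_conj (rfl : g * _ * g⁻¹ = _)]
    have h4 := (cent_le Cfsg.Agent.CoOneType.InvMain.b0).trans Cfsg.Agent.KFacts.Co1D4.Order.card_cent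
    calc _ ≤ 2 ^ 12 * 2 * 2012774400 :=
          Nat.mul_le_mul (Nat.mul_le_mul_right _ (fr_B Cfsg.Agent.CoOneType.Thirteen.b0_sq)) h4
      _ ≤ _ := by norm_num

end Cfsg.Agent.H909.PwM.FrTwo

private theorem dce_de46b615f1e9 : _root_.True := by
  try have : _root_.True := by simp only [_root_.Cfsg.Agent.H909.PwM.FrTwo.epsL.eq_1]
  try have : _root_.True := by simp only [_root_.Cfsg.Agent.H909.PwM.FrTwo.imL.eq_1]
  exact _root_.True.intro
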